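import Cfsg.Agent.Helper61.Sr.Basic

/-!
# (DS7) `card_dvd_of_per` for helper61's S3572 farm: insurance duplicates (#12182)
(helper69)
-/

set_option autoImplicit false

namespace Cfsg.Agent.Helper69.Sr

open Finset DihedralGroup Cfsg.Agent.Helper61.Sr Cfsg.Agent.Helper61.Dih

variable {n : ℕ} [NeZero n]

/-- (DS7) -/
theorem card_dvd_of_per (p : ℕ) [Fact p.Prime] (hpn : p ∣ n) (A : Finset (ZMod n))
    (hA : Per p A) : p ∣ A.card := by
  have hp : p.Prime := Fact.out
  have hnpos : 0 < n := Nat.pos_of_ne_zero (NeZero.ne n)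
  obtain ⟨u0, hu0⟩ : ∃ u0 : ZMod n, u0 = ((n / p : ℕ) : ZMod n) := ⟨_, rfl⟩
  have hpu : p • u0 = 0 := by
    rw [hu0, nsmul_eq_mul, ← Nat.cast_mul, Nat.mul_div_cancel' hpn, ZMod.natCast_self]
  have hu0ne : u0 ≠ 0 := by
    rw [hu0, Ne, ZMod.natCast_eq_zero_iff]
    intro h
    have h1 : 0 < n / p := Nat.div_pos (Nat.le_of_dvd hnpos hpn) hp.pos
    have h2 := Nat.le_of_dvd h1 h
    have h3 := Nat.div_lt_self hnpos hp.one_lt
    omega
  let f : Function.End {x // x ∈ A} := fun x => ⟨x.1 + u0, (hA x.1 u0 hpu).1 x.2⟩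
  have hf : ∀ (k : ℕ) (x : {x // x ∈ A}), ((f ^ k) x).1 = x.1 + k • u0 := by
    intro k
    induction k with
    | zero =>
      intro x
      rw [pow_zero, zero_nsmul, add_zero]
      rfl
    | succ k ih =>
      intro x
      rw [pow_succ']
      show ((f ^ k) x).1 + u0 = _
      rw [ih, succ_nsmul, add_assoc]
  have hfp : f ^ p ^ 1 = 1 := by
    funext x
    apply Subtype.ext
    rw [pow_one, hf, hpu, add_zero]
    rfl
  have h := Equiv.Perm.card_fixedPoints_modEq (p := p) (n := 1) hfp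
  have hfix : IsEmpty (Function.fixedPoints f) := by
    constructor
    rintro ⟨x, hx⟩
    have h1 := congrArg Subtype.val hx
    have h2 : x.1 + u0 = x.1 := h1
    exact hu0ne (by simpa using h2)
  rw [Fintype.card_coe, Fintype.card_eq_zero] at h
  exact (Nat.modEq_zero_iff_dvd).1 h

end Cfsg.Agent.Helper69.Sr
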