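import Cfsg.Agent.Helper61.Sr.Basic

/-!
# (NT1+NT2), (NT3) for helper61's S3572 farm (#11974): number theory in `ZMod n`
(helper69)
-/

set_option autoImplicit false

namespace Cfsg.Agent.Helper69.Sr

open Finset DihedralGroup Cfsg.Agent.Helper61.Sr Cfsg.Agent.Helper61.Dih

variable {n : ℕ} [NeZero n]

/-- lifting a unit modulo a divisor `d` of `n` which kills `x` -/
theorem nt_lift (d : ℕ) (hd : d ∣ n) (j : ℕ) (hj : Nat.Coprime j d) (x : ZMod n)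
    (hx : d • x = 0) : ∃ u : (ZMod n)ˣ, (u : ZMod n) * x = j • x := by
  obtain ⟨u, hu⟩ := ZMod.unitsMap_surjective hd (ZMod.unitOfCoprime j hj)
  refine ⟨u, ?_⟩
  have h1 : (((u : ZMod n).val : ℕ) : ZMod d) = (j : ZMod d) := by
    have h2 := congrArg (fun v : (ZMod d)ˣ => (v : ZMod d)) hu
    simp only [ZMod.unitsMap_def, Units.coe_map, ZMod.coe_unitOfCoprime] at h2
    rw [ZMod.natCast_val]
    exact h2
  rw [ZMod.natCast_eq_natCast_iff] at h1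
  have h3 : (u : ZMod n).val ≡ j [MOD addOrderOf x] :=
    h1.of_dvd (addOrderOf_dvd_iff_nsmul_eq_zero.2 hx)
  rw [← nsmul_eq_nsmul_iff_modEq.2 h3, nsmul_eq_mul, ZMod.natCast_zmod_val]

/-- the elements killed by `p` are the multiples of `n / p` -/
theorem nt_repr (p d : ℕ) (hp : 0 < p) (hn : n = p * d) (k : ZMod n) (hk : p • k = 0) :
    ∃ c : ℕ, k = ((d * c : ℕ) : ZMod n) := by
  have h1 : ((p * k.val : ℕ) : ZMod n) = 0 := by
    rw [Nat.cast_mul, ZMod.natCast_zmod_val, ← nsmul_eq_mul]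
    exact hk
  rw [ZMod.natCast_eq_zero_iff] at h1
  obtain ⟨t, ht⟩ := h1
  have h2 : k.val = d * t := by
    apply Nat.eq_of_mul_eq_mul_left hp
    rw [ht, hn]
    ring
  exact ⟨t, by rw [← h2, ZMod.natCast_zmod_val]⟩

omit [NeZero n] in
/-- a multiple `d * c` of `d = n / p` is non-zero only if `c` is non-zero modulo `p` -/
theorem nt_repr_ne (p d : ℕ) (hn : n = p * d) (c : ℕ) (hc : ((d * c : ℕ) : ZMod n) ≠ 0) :
    (c : ZMod p) ≠ 0 := by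
  intro h
  apply hc
  rw [ZMod.natCast_eq_zero_iff] at h ⊢
  obtain ⟨t, rfl⟩ := h
  exact ⟨t, by rw [hn]; ring⟩

/-- (NT1) the units act transitively on the elements of order `p` -/
theorem unit_trans_tor (p : ℕ) [Fact p.Prime] (hpn : p ∣ n) (k k' : ZMod n) (hk : p • k = 0)
    (hk0 : k ≠ 0) (hk' : p • k' = 0) (hk'0 : k' ≠ 0) : ∃ u : (ZMod n)ˣ, (u : ZMod n) * k = k' := by
  have hp : p.Prime := Fact.out
  obtain ⟨d, hd⟩ := hpn
  obtain ⟨c, hc⟩ := nt_repr p d hp.pos hd k hk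
  obtain ⟨c', hc'⟩ := nt_repr p d hp.pos hd k' hk'
  have hc0 : (c : ZMod p) ≠ 0 := nt_repr_ne p d hd c (hc ▸ hk0)
  have hc'0 : (c' : ZMod p) ≠ 0 := nt_repr_ne p d hd c' (hc' ▸ hk'0)
  obtain ⟨j, hjdef⟩ : ∃ j : ℕ, j = ((c' : ZMod p) / (c : ZMod p)).val := ⟨_, rfl⟩
  have hjc : (j : ZMod p) = (c' : ZMod p) / (c : ZMod p) := by
    rw [hjdef, ZMod.natCast_zmod_val]
  have hj : Nat.Coprime j p := by
    apply Nat.Coprime.symm
    rw [Nat.Prime.coprime_iff_not_dvd hp, ← ZMod.natCast_eq_zero_iff, hjc]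
    exact div_ne_zero hc'0 hc0
  obtain ⟨u, hu⟩ := nt_lift p ⟨d, hd⟩ j hj k hk
  refine ⟨u, ?_⟩
  rw [hu, hc, hc', nsmul_eq_mul, ← Nat.cast_mul, ZMod.natCast_eq_natCast_iff]
  have h5 : j * c ≡ c' [MOD p] := by
    rw [← ZMod.natCast_eq_natCast_iff, Nat.cast_mul, hjc, div_mul_cancel₀ _ hc0]
  have h6 := Nat.ModEq.mul_left' d h5
  have h7 : j * (d * c) = d * (j * c) := by ring
  rw [h7, hd, mul_comm p d]
  exact h6

/-- (NT2) -/
theorem rational_tor (p : ℕ) [Fact p.Prime] (hpn : p ∣ n) (A : Finset (ZMod n))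
    (hA : Rational A) :
    (∀ u : ZMod n, p • u = 0 → u ≠ 0 → u ∉ A) ∨ (∀ u : ZMod n, p • u = 0 → u ≠ 0 → u ∈ A) := by
  by_cases h : ∃ k : ZMod n, p • k = 0 ∧ k ≠ 0 ∧ k ∈ A
  · obtain ⟨k, hk, hk0, hkA⟩ := h
    right
    intro k' hk' hk'0
    obtain ⟨u, hu⟩ := unit_trans_tor p hpn k k' hk hk0 hk' hk'0
    rw [← hu]
    exact hA u k hkA
  · left
    intro k hk hk0 hkA
    exact h ⟨k, hk, hk0, hkA⟩

/-- the unique element of order two of `ZMod n`, `n` even -/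
theorem nt_order_two (hn2 : 2 ∣ n) (y : ZMod n) (hy : 2 • y = 0) (hy0 : y ≠ 0) :
    y = ((n / 2 : ℕ) : ZMod n) := by
  have hn : n = 2 * (n / 2) := (Nat.mul_div_cancel' hn2).symm
  obtain ⟨c, hc⟩ := nt_repr 2 (n / 2) (by norm_num) hn y hy
  have hc0 : (c : ZMod 2) ≠ 0 := nt_repr_ne 2 (n / 2) hn c (hc ▸ hy0)
  rw [Ne, ZMod.natCast_eq_zero_iff] at hc0
  obtain ⟨t, ht⟩ : ∃ t, c = 2 * t + 1 := ⟨c / 2, by omega⟩
  rw [hc, ZMod.natCast_eq_natCast_iff]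
  have h1 : n / 2 * c = n * t + n / 2 := by
    rw [ht]
    have : n / 2 * (2 * t + 1) = 2 * (n / 2) * t + n / 2 := by ring
    rw [this, ← hn]
  rw [h1]
  unfold Nat.ModEq
  rw [Nat.mul_add_mod]

/-- (NT3) elements of `2`-power order at least `4` -/
theorem unit_add_half (hn2 : 2 ∣ n) (x : ZMod n) (a : ℕ) (hx : (2 ^ a) • x = 0)
    (hx2 : 2 • x ≠ 0) : ∃ u : (ZMod n)ˣ, (u : ZMod n) * x = x + ((n / 2 : ℕ) : ZMod n) := by
  have hd2 : addOrderOf x ∣ 2 ^ a := addOrderOf_dvd_iff_nsmul_eq_zero.2 hx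
  obtain ⟨i, -, hdi⟩ := (Nat.dvd_prime_pow Nat.prime_two).1 hd2
  have hi : 2 ≤ i := by
    by_contra hlt
    apply hx2
    rw [← addOrderOf_dvd_iff_nsmul_eq_zero, hdi]
    have : i ≤ 1 := by omega
    calc 2 ^ i ∣ 2 ^ 1 := Nat.pow_dvd_pow 2 this
      _ = 2 := by norm_num
  have hdn : addOrderOf x ∣ n := by
    have h := addOrderOf_dvd_card (x := x)
    rwa [ZMod.card] at h
  obtain ⟨i', rfl⟩ : ∃ i', i = i' + 2 := ⟨i - 2, by omega⟩
  have hj : Nat.Coprime (1 + 2 ^ (i' + 1)) (addOrderOf x) := by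
    rw [hdi]
    apply Nat.Coprime.pow_right
    have : 1 + 2 ^ (i' + 1) = 1 + 2 * 2 ^ i' := by ring
    rw [this]
    simp
  obtain ⟨u, hu⟩ := nt_lift (addOrderOf x) hdn (1 + 2 ^ (i' + 1)) hj x (addOrderOf_nsmul_eq_zero x)
  refine ⟨u, ?_⟩
  rw [hu, add_nsmul, one_nsmul]
  congr 1
  apply nt_order_two hn2
  · rw [← mul_nsmul']
    have : 2 * 2 ^ (i' + 1) = 2 ^ (i' + 2) := by ring
    rw [this, ← hdi]
    exact addOrderOf_nsmul_eq_zero x
  · intro h0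
    rw [← addOrderOf_dvd_iff_nsmul_eq_zero, hdi] at h0
    have := (Nat.pow_dvd_pow_iff_le_right (by norm_num : 1 < 2)).1 h0
    omega

end Cfsg.Agent.Helper69.Sr
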