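import Cfsg.Agent.Helper61.Sr.Basic

/-!
# (NT4) `rational_odd` for helper61's S3572 farm: insurance duplicates (#12182)
(helper69)
-/

set_option autoImplicit false
set_option linter.unusedVariables false

namespace Cfsg.Agent.Helper69.Sr

open Finset DihedralGroup Cfsg.Agent.Helper61.Sr Cfsg.Agent.Helper61.Dih

variable {n : ℕ} [NeZero n]

/-- (NT4) -/
theorem rational_odd (a : ℕ) (hn : n = 2 ^ a) (A : Finset (ZMod n)) (hA : Rational A) :
    (∀ x : ZMod n, IsUnit x → x ∉ A) ∨ (∀ x : ZMod n, IsUnit x → x ∈ A) := by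
  by_cases h : ∃ x : ZMod n, IsUnit x ∧ x ∈ A
  · obtain ⟨x, hx, hxA⟩ := h
    right
    intro y hy
    have h1 := hA (hy.unit * hx.unit⁻¹) x hxA
    have h2 : ((hy.unit * hx.unit⁻¹ : (ZMod n)ˣ) : ZMod n) * x = y := by
      have : x = (hx.unit : ZMod n) := rfl
      rw [Units.val_mul, mul_assoc]
      nth_rewrite 2 [this]
      rw [Units.inv_mul, mul_one]
      rfl
    rwa [h2] at h1
  · left
    intro x hx hxA
    exact h ⟨x, hx, hxA⟩

end Cfsg.Agent.Helper69.Sr
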